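import Cfsg.Agent.Lib.RankTwoUnique.Basic
import Cfsg.Agent.S3116
import Cfsg.Agent.Lib.TwoGroups.WreathedAut

/-!
Dihedral and semidihedral 2-groups in one normal form, their subgroups with odd automorphisms, and
the automorphism groups these carry in a saturated system with full focal subgroup.
-/

set_option autoImplicit false
set_option linter.unusedSectionVars false

namespace CfsgLib.RankTwoUnique

open Cfsg Cfsg.FusionSystem CfsgLib.Fusion

variable {Γ : Type*} [Group Γ]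

/-- `x` has order `2m`, `y` sends it to `x^e` with `e = -1` or `e = m - 1`, and `y² = x^c` with `c = 0`,
or `c = m` and `e = -1` (dihedral, semidihedral, quaternion). -/
structure DS (Γ : Type*) [Group Γ] (m : ℕ) (e c : ℤ) (x y : Γ) : Prop where
  pow : ∃ t, m = 2 ^ (t + 1)
  ordx : orderOf x = 2 * m
  yy : y * y = x ^ c
  hc : c = 0 ∨ (c = (m : ℤ) ∧ e = -1 ∧ 4 ∣ m)
  rel : y * x * y⁻¹ = x ^ e
  he : e = -1 ∨ (e = (m : ℤ) - 1 ∧ 4 ∣ m)
  card : Nat.card Γ = 4 * m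
  gen : ∀ g : Γ, ∃ k : ℤ, g = x ^ k ∨ g = x ^ k * y
  notMem : y ∉ Subgroup.zpowers x

namespace DS

variable {m : ℕ} {e c : ℤ} {x y : Γ}

theorem m_pos (h : DS Γ m e c x y) : 0 < m := by
  obtain ⟨t, rfl⟩ := h.pow
  positivity

theorem two_dvd (h : DS Γ m e c x y) : (2 : ℤ) ∣ m := by
  obtain ⟨t, rfl⟩ := h.pow
  exact ⟨2 ^ t, by push_cast; ring⟩

theorem one_iff (h : DS Γ m e c x y) {a : ℤ} : x ^ a = 1 ↔ 2 * (m : ℤ) ∣ a := by
  rw [← orderOf_dvd_iff_zpow_eq_one, h.ordx]; push_cast; rfl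

theorem eq_iff (h : DS Γ m e c x y) {a b : ℤ} : x ^ a = x ^ b ↔ 2 * (m : ℤ) ∣ a - b := by
  rw [← mul_inv_eq_one, ← zpow_neg, ← zpow_add, h.one_iff, sub_eq_add_neg]

theorem y_mul (h : DS Γ m e c x y) (k : ℤ) : y * x ^ k = x ^ (e * k) * y := by
  rw [← mul_inv_eq_iff_eq_mul, ← conj_zpow, h.rel, ← zpow_mul]

theorem mul_rot (h : DS Γ m e c x y) (a b : ℤ) : x ^ a * y * x ^ b = x ^ (a + e * b) * y := by
  rw [mul_assoc, h.y_mul, ← mul_assoc, ← zpow_add]

theorem rot_mul (_h : DS Γ m e c x y) (a b : ℤ) : x ^ a * (x ^ b * y) = x ^ (a + b) * y := by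
  rw [← mul_assoc, ← zpow_add]

theorem mul_xy (h : DS Γ m e c x y) (a b : ℤ) : x ^ a * y * (x ^ b * y) = x ^ (a + e * b + c) := by
  rw [← mul_assoc, h.mul_rot, mul_assoc, h.yy, ← zpow_add]

theorem ne_rot (h : DS Γ m e c x y) (a b : ℤ) : x ^ a * y ≠ x ^ b := fun hab =>
  h.notMem ⟨-a + b, by
    show x ^ (-a + b) = y
    rw [zpow_add, ← hab, ← mul_assoc, ← zpow_add, neg_add_cancel, zpow_zero, one_mul]⟩

theorem xy_iff (h : DS Γ m e c x y) {a b : ℤ} : x ^ a * y = x ^ b * y ↔ 2 * (m : ℤ) ∣ a - b := by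
  rw [mul_left_inj, h.eq_iff]

theorem ee (h : DS Γ m e c x y) : 2 * (m : ℤ) ∣ e * e - 1 := by
  rcases h.he with rfl | ⟨rfl, -⟩
  · simp
  · obtain ⟨k, hk⟩ := h.two_dvd
    exact ⟨k - 1, by rw [hk]; ring⟩

theorem e_add (h : DS Γ m e c x y) : 1 + e = 0 ∨ (1 + e = (m : ℤ) ∧ 4 ∣ m) := by
  rcases h.he with rfl | ⟨rfl, h4⟩
  · exact Or.inl rfl
  · exact Or.inr ⟨by ring, h4⟩

theorem xy_inv (h : DS Γ m e c x y) (a : ℤ) : (x ^ a * y)⁻¹ = x ^ (-(e * (a + c))) * y := by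
  refine inv_eq_of_mul_eq_one_right ?_
  rw [h.mul_xy, h.one_iff]
  rw [show a + e * -(e * (a + c)) + c = -((e * e - 1) * (a + c)) by ring, dvd_neg]
  exact h.ee.mul_right _

theorem c_dvd (h : DS Γ m e c x y) : (m : ℤ) ∣ c := by
  rcases h.hc with rfl | ⟨rfl, -, -⟩
  · exact dvd_zero _
  · exact dvd_rfl

/-- `(x^a y)² = x^(sq a)`. -/
def sq (_h : DS Γ m e c x y) (a : ℤ) : ℤ := (1 + e) * a + c

theorem sq_cases (h : DS Γ m e c x y) (a : ℤ) :
    (m : ℤ) ∣ h.sq a ∧ (¬ 2 * (m : ℤ) ∣ h.sq a → (4 : ℤ) ∣ m ∧ 2 * (m : ℤ) ∣ h.sq a - m) := by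
  unfold sq
  rcases h.e_add with he | ⟨he, h4⟩ <;> rw [he]
  · rw [zero_mul, zero_add]
    refine ⟨h.c_dvd, fun hne => ?_⟩
    rcases h.hc with rfl | ⟨rfl, -, h4⟩
    · exact absurd (dvd_zero _) hne
    · exact ⟨by exact_mod_cast h4, by simp⟩
  · obtain rfl : c = 0 := by
      rcases h.hc with hc | ⟨-, he', -⟩
      · exact hc
      · have := h.m_pos; omega
    rw [add_zero]
    refine ⟨dvd_mul_right _ _, fun hne => ⟨by exact_mod_cast h4, ?_⟩⟩
    rcases Int.even_or_odd a with ⟨i, rfl⟩ | ⟨i, rfl⟩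
    · exact absurd ⟨i, by ring⟩ hne
    · exact ⟨i, by ring⟩

/-- The elements `x^(di)`, `x^(di+a) y`. -/
def sub (h : DS Γ m e c x y) (d a : ℤ) (hda : d ∣ h.sq a) (hdc : d ∣ c) : Subgroup Γ where
  carrier := {g | ∃ k, d ∣ k ∧ g = x ^ k ∨ d ∣ k - a ∧ g = x ^ k * y}
  one_mem' := ⟨0, Or.inl ⟨dvd_zero d, (zpow_zero x).symm⟩⟩
  mul_mem' := by
    rintro _ _ ⟨k, ⟨hk, rfl⟩ | ⟨hk, rfl⟩⟩ ⟨l, ⟨hl, rfl⟩ | ⟨hl, rfl⟩⟩
    · exact ⟨k + l, Or.inl ⟨hk.add hl, (zpow_add x k l).symm⟩⟩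
    · exact ⟨k + l, Or.inr ⟨by rw [show k + l - a = k + (l - a) by ring]; exact hk.add hl, h.rot_mul k l⟩⟩
    · exact ⟨k + e * l, Or.inr ⟨by
        rw [show k + e * l - a = (k - a) + e * l by ring]; exact hk.add (hl.mul_left e), h.mul_rot k l⟩⟩
    · exact ⟨k + e * l + c, Or.inl ⟨by
        rw [show k + e * l + c = (k - a) + e * (l - a) + h.sq a by rw [sq]; ring]
        exact (hk.add (hl.mul_left e)).add hda, h.mul_xy k l⟩⟩
  inv_mem' := by
    rintro _ ⟨k, ⟨hk, rfl⟩ | ⟨hk, rfl⟩⟩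
    · exact ⟨-k, Or.inl ⟨hk.neg_right, (zpow_neg x k).symm⟩⟩
    · exact ⟨-(e * (k + c)), Or.inr ⟨by
        rw [show -(e * (k + c)) - a = -(e * (k - a)) - h.sq a + (1 - e) * c by rw [sq]; ring]
        exact ((hk.mul_left e).neg_right.sub hda).add (hdc.mul_left _), h.xy_inv k⟩⟩

theorem rot_mem (h : DS Γ m e c x y) {d a : ℤ} {hda : d ∣ h.sq a} {hdc : d ∣ c} (hd : d ∣ 2 * (m : ℤ)) {k : ℤ} :
    x ^ k ∈ h.sub d a hda hdc ↔ d ∣ k := by
  refine ⟨?_, fun hk => ⟨k, Or.inl ⟨hk, rfl⟩⟩⟩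
  rintro ⟨l, ⟨hl, hk⟩ | ⟨-, hk⟩⟩
  · have h' := (hd.trans (h.eq_iff.1 hk)).add hl
    rwa [sub_add_cancel] at h'
  · exact absurd hk.symm (h.ne_rot _ _)

theorem xy_mem (h : DS Γ m e c x y) {d a : ℤ} {hda : d ∣ h.sq a} {hdc : d ∣ c} (hd : d ∣ 2 * (m : ℤ)) {k : ℤ} :
    x ^ k * y ∈ h.sub d a hda hdc ↔ d ∣ k - a := by
  refine ⟨?_, fun hk => ⟨k, Or.inr ⟨hk, rfl⟩⟩⟩
  rintro ⟨l, ⟨-, hk⟩ | ⟨hl, hk⟩⟩
  · exact absurd hk (h.ne_rot _ _)
  · have h' := (hd.trans (h.xy_iff.1 hk)).add hl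
    rwa [show k - l + (l - a) = k - a by ring] at h'

/-- The parity class. -/
theorem two_dvd_c (h : DS Γ m e c x y) : (2 : ℤ) ∣ c := h.two_dvd.trans h.c_dvd

theorem two_dvd_sq (h : DS Γ m e c x y) (p : ℤ) : (2 : ℤ) ∣ h.sq p := h.two_dvd.trans (h.sq_cases p).1

theorem two_dvd_add (h : DS Γ m e c x y) : (2 : ℤ) ∣ 1 + e := by
  rcases h.e_add with he | ⟨he, -⟩ <;> rw [he]
  · exact dvd_zero _
  · exact h.two_dvd

/-- `⟨x², x^p y⟩`. -/
def half (h : DS Γ m e c x y) (p : ℤ) : Subgroup Γ :=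
  h.sub 2 p (h.two_dvd_sq p) h.two_dvd_c

theorem index_half (h : DS Γ m e c x y) (p : ℤ) : (h.half p).index = 2 := by
  rw [Subgroup.index_eq_two_iff]
  refine ⟨x, fun g => ?_⟩
  have h2 : (2 : ℤ) ∣ 2 * (m : ℤ) := dvd_mul_right 2 _
  obtain ⟨k, rfl | rfl⟩ := h.gen g
  · rw [← zpow_add_one, half, h.rot_mem h2, h.rot_mem h2]
    rcases Int.even_or_odd k with ⟨j, rfl⟩ | ⟨j, rfl⟩
    · exact Or.inr ⟨⟨j, by ring⟩, by omega⟩
    · exact Or.inl ⟨⟨j + 1, by ring⟩, by omega⟩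
  · have e1 : x ^ k * y * x = x ^ (k + e) * y := by simpa using h.mul_rot k 1
    have hodd := h.two_dvd_add
    rw [e1, half, h.xy_mem h2, h.xy_mem h2]
    rcases Int.even_or_odd (k - p) with ⟨j, hj⟩ | ⟨j, hj⟩
    · exact Or.inr ⟨⟨j, by omega⟩, by omega⟩
    · exact Or.inl ⟨by omega, by omega⟩

open Classical in
/-- The period of the candidate at `a`. -/
noncomputable def per (h : DS Γ m e c x y) (a : ℤ) : ℤ :=
  if 2 * (m : ℤ) ∣ h.sq a then m else (m : ℤ) / 2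

theorem per_eq_of (h : DS Γ m e c x y) {a : ℤ} (ha : ¬ 2 * (m : ℤ) ∣ h.sq a) :
    2 * (m : ℤ) ∣ h.sq a - m ∧ (4 : ℤ) ∣ m ∧ h.per a = (m : ℤ) / 2 :=
  ⟨((h.sq_cases a).2 ha).2, ((h.sq_cases a).2 ha).1, if_neg ha⟩

theorem per_dvd (h : DS Γ m e c x y) (a : ℤ) : h.per a ∣ (m : ℤ) ∧ (2 : ℤ) ∣ h.per a := by
  by_cases ha : 2 * (m : ℤ) ∣ h.sq a
  · rw [show h.per a = m from if_pos ha]
    exact ⟨dvd_rfl, h.two_dvd⟩
  · obtain ⟨-, ⟨k, hk⟩, hp⟩ := h.per_eq_of ha
    rw [hp, hk, show (4 : ℤ) * k / 2 = 2 * k by omega]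
    exact ⟨⟨2, by ring⟩, dvd_mul_right 2 k⟩

theorem per_hyp (h : DS Γ m e c x y) (a : ℤ) : h.per a ∣ h.sq a :=
  (h.per_dvd a).1.trans (h.sq_cases a).1

theorem per_dvd_c (h : DS Γ m e c x y) (a : ℤ) : h.per a ∣ c := (h.per_dvd a).1.trans h.c_dvd

/-- The candidate subgroup at `a`: Klein four or quaternion. -/
noncomputable def cand (h : DS Γ m e c x y) (a : ℤ) : Subgroup Γ := h.sub (h.per a) a (h.per_hyp a) (h.per_dvd_c a)

theorem per_dvd_two_mul (h : DS Γ m e c x y) (a : ℤ) : h.per a ∣ 2 * (m : ℤ) :=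
  (h.per_dvd a).1.mul_left 2

theorem cand_le_half (h : DS Γ m e c x y) {a p : ℤ} (hap : (2 : ℤ) ∣ a - p) : h.cand a ≤ h.half p := by
  rintro _ ⟨k, ⟨hk, rfl⟩ | ⟨hk, rfl⟩⟩
  · exact (h.rot_mem (dvd_mul_right 2 _)).2 ((h.per_dvd a).2.trans hk)
  · refine (h.xy_mem (dvd_mul_right 2 _)).2 ?_
    rw [show k - p = (k - a) + (a - p) by ring]
    exact ((h.per_dvd a).2.trans hk).add hap

theorem sub_congr (h : DS Γ m e c x y) {d a d' a' : ℤ} {hda : d ∣ h.sq a} {hdc : d ∣ c} {hda' : d' ∣ h.sq a'}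
    {hdc' : d' ∣ c} (hd : d = d') (ha : a = a') : h.sub d a hda hdc = h.sub d' a' hda' hdc' := by subst hd ha; rfl

theorem sq_mod (h : DS Γ m e c x y) {a b : ℤ} (hab : (2 : ℤ) ∣ b - a) :
    2 * (m : ℤ) ∣ h.sq b - h.sq a := by
  obtain ⟨q, hq⟩ := hab
  rw [show h.sq b - h.sq a = (1 + e) * (b - a) by unfold sq; ring, hq]
  rcases h.e_add with he | ⟨he, -⟩ <;> rw [he]
  · simp
  · exact ⟨q, by ring⟩

theorem cand_conj (h : DS Γ m e c x y) {a b : ℤ} (hab : (2 : ℤ) ∣ b - a) :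
    ∃ g, (h.cand a).map (MulAut.conj g).toMonoidHom = h.cand b := by
  have hper : h.per a = h.per b := by
    have hs := h.sq_mod hab
    by_cases ha : 2 * (m : ℤ) ∣ h.sq a
    · rw [show h.per a = m from if_pos ha, show h.per b = m from if_pos (by simpa using hs.add ha)]
    · rw [show h.per a = (m : ℤ) / 2 from if_neg ha,
        show h.per b = (m : ℤ) / 2 from if_neg fun hb => ha (by simpa using hb.sub hs)]
  obtain ⟨q, hq⟩ := hab
  obtain ⟨s₀, hs₀⟩ : ∃ s₀ : ℤ, 2 * (m : ℤ) ∣ (1 - e) * s₀ - (b - a) := by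
    rcases h.he with rfl | ⟨rfl, h4⟩
    · exact ⟨q, by rw [hq]; simp⟩
    · obtain ⟨k, rfl⟩ := h4
      refine ⟨q * (1 - 2 * k), q * (k - 1), ?_⟩
      rw [hq]; push_cast; ring
  have hd := h.per_dvd_two_mul a
  have hs₀onj : ∀ k, x ^ s₀ * (x ^ k * y) * (x ^ s₀)⁻¹ = x ^ (k + (1 - e) * s₀) * y := fun k => by
    rw [h.rot_mul, ← zpow_neg, h.mul_rot]; ring_nf
  refine ⟨x ^ s₀, ?_⟩
  ext g
  rw [cand, cand, h.sub_congr (hda' := hper ▸ h.per_hyp b) (hdc' := h.per_dvd_c a) hper.symm rfl]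
  constructor
  · rintro ⟨_, ⟨k, ⟨hk, rfl⟩ | ⟨hk, rfl⟩⟩, rfl⟩
    · simp only [MulEquiv.coe_toMonoidHom, MulAut.conj_apply]
      rw [← zpow_neg, ← zpow_add, ← zpow_add]
      exact ⟨_, Or.inl ⟨(show s₀ + k + -s₀ = k by ring).symm ▸ hk, rfl⟩⟩
    · simp only [MulEquiv.coe_toMonoidHom, MulAut.conj_apply]
      rw [hs₀onj]
      refine (h.xy_mem hd).2 ?_
      rw [show k + (1 - e) * s₀ - b = (k - a) + ((1 - e) * s₀ - (b - a)) by ring]
      exact hk.add (hd.trans hs₀)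
  · rintro ⟨k, ⟨hk, rfl⟩ | ⟨hk, rfl⟩⟩
    · refine ⟨x ^ k, ⟨k, Or.inl ⟨hk, rfl⟩⟩, ?_⟩
      simp only [MulEquiv.coe_toMonoidHom, MulAut.conj_apply]
      rw [← zpow_neg, ← zpow_add, ← zpow_add]; ring_nf
    · refine ⟨x ^ (k - (1 - e) * s₀) * y, (h.xy_mem hd).2 ?_, ?_⟩
      · rw [show k - (1 - e) * s₀ - a = (k - b) - ((1 - e) * s₀ - (b - a)) by ring]
        exact hk.sub (hd.trans hs₀)
      · simp only [MulEquiv.coe_toMonoidHom, MulAut.conj_apply]
        rw [hs₀onj, sub_add_cancel]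

theorem index_rot (h : DS Γ m e c x y) {d a : ℤ} {hda : d ∣ h.sq a} {hdc : d ∣ c} (hd : d ∣ 2 * (m : ℤ))
    {u : h.sub d a hda hdc} (hu : (u : Γ) = x ^ d) : (Subgroup.zpowers u).index = 2 := by
  have hmem : ∀ g : h.sub d a hda hdc, g ∈ Subgroup.zpowers u ↔ ∃ k : ℤ, (g : Γ) = x ^ k := by
    intro g
    constructor
    · rintro ⟨i, rfl⟩
      exact ⟨d * i, by rw [zpow_mul, ← hu]; rfl⟩
    · rintro ⟨k, hk⟩
      obtain ⟨i, rfl⟩ := (h.rot_mem hd).1 (hk ▸ g.2)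
      exact ⟨i, Subtype.ext (by rw [hk, zpow_mul, ← hu]; rfl)⟩
  rw [Subgroup.index_eq_two_iff]
  refine ⟨⟨x ^ a * y, (h.xy_mem hd).2 (by simp)⟩, fun g => ?_⟩
  simp only [hmem, Subgroup.coe_mul]
  obtain ⟨k, ⟨-, hk⟩ | ⟨-, hk⟩⟩ := g.2
  · refine Or.inr ⟨⟨k, hk⟩, ?_⟩
    rintro ⟨l, hl⟩
    rw [hk, h.rot_mul] at hl
    exact h.ne_rot _ _ hl
  · refine Or.inl ⟨⟨k + e * a + c, by rw [hk, h.mul_xy]⟩, ?_⟩
    rintro ⟨l, hl⟩
    exact h.ne_rot _ _ (hk ▸ hl)

theorem sq_four (h : DS Γ m e c x y) (b : ℤ) : (x ^ b * y) ^ 4 = 1 := by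
  rw [show (x ^ b * y) ^ 4 = (x ^ b * y * (x ^ b * y)) * (x ^ b * y * (x ^ b * y)) by
      simp only [pow_succ, pow_zero, one_mul, mul_assoc],
    h.mul_xy, ← zpow_add, h.one_iff, show b + e * b + c + (b + e * b + c) = 2 * h.sq b by unfold sq; ring]
  exact mul_dvd_mul_left _ (h.sq_cases b).1

variable [Finite Γ]

theorem isPGroup (h : DS Γ m e c x y) : IsPGroup 2 Γ := by
  obtain ⟨t, rfl⟩ := h.pow
  exact IsPGroup.of_card (n := t + 3) (by rw [h.card, pow_succ, pow_succ, pow_succ, pow_succ]; ring)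

theorem isPGroup_mulAut_cyclic {X : Type*} [Group X] [Finite X] (hX : IsPGroup 2 X) [hc : IsCyclic X] :
    IsPGroup 2 (MulAut X) := by
  refine CfsgLib.TwoGroups.OddAut.isPGroup_mulAut fun φ hφ => MulEquiv.ext fun w => ?_
  obtain ⟨v, hv⟩ := hc.exists_generator
  obtain ⟨i, rfl⟩ := hv w
  rw [map_zpow, CfsgLib.TwoGroups.OddAut.fixed_cyclic hX hφ v (hv (φ v))]
  rfl

theorem jmem (h : DS Γ m e c x y) (g : Γ) : Commute (x ^ (m : ℤ)) g := by
  obtain ⟨k, rfl | rfl⟩ := h.gen g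
  · exact Commute.zpow_zpow_self x _ _
  · unfold Commute SemiconjBy
    rw [h.rot_mul, h.mul_rot, h.xy_iff]
    rw [show (m : ℤ) + k - (k + e * m) = (m : ℤ) * (1 + e) - 2 * ((m : ℤ) * e) by ring]
    refine dvd_sub ?_ ⟨e, by ring⟩
    rcases h.e_add with he | ⟨he, -⟩ <;> rw [he]
    · simp
    · obtain ⟨j, hj⟩ := h.two_dvd
      exact ⟨j, by linear_combination (m : ℤ) * hj⟩

/-- The centric subgroups with automorphisms of odd order. -/
theorem classify (h : DS Γ m e c x y) {P : Subgroup Γ} (hC : Subgroup.centralizer (P : Set Γ) ≤ P)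
    (hA : ¬ IsPGroup 2 (MulAut P)) : ∃ a, P = h.cand a := by
  classical
  have hPp : IsPGroup 2 P := h.isPGroup.to_subgroup P
  by_cases hrot : P ≤ Subgroup.zpowers x
  · exact absurd (haveI := Subgroup.isCyclic_of_le hrot; isPGroup_mulAut_cyclic hPp) hA
  obtain ⟨g, hgP, hgx⟩ := SetLike.not_le_iff_exists.mp hrot
  obtain ⟨a, rfl | rfl⟩ := h.gen g
  · exact absurd ⟨a, rfl⟩ hgx
  obtain ⟨t, ht⟩ := h.pow
  have hJ : x ^ ((2 ^ (t + 1) : ℕ) : ℤ) ∈ P := hC (Subgroup.mem_centralizer_iff.mpr fun g _ => by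
    rw [← ht]; exact (h.jmem g).symm.eq)
  have hex : ∃ j : ℕ, x ^ ((2 ^ j : ℕ) : ℤ) ∈ P := ⟨t + 1, hJ⟩
  obtain ⟨j, hjP, hjt, hmin⟩ : ∃ j, x ^ ((2 ^ j : ℕ) : ℤ) ∈ P ∧ j ≤ t + 1 ∧
      ∀ i, x ^ ((2 ^ i : ℕ) : ℤ) ∈ P → j ≤ i :=
    ⟨Nat.find hex, Nat.find_spec hex, Nat.find_min' hex hJ, fun _ hi => Nat.find_min' hex hi⟩
  have hm2 : 2 * (m : ℤ) = ((2 ^ (t + 2) : ℕ) : ℤ) := by rw [ht]; push_cast; ring
  set d : ℤ := ((2 ^ j : ℕ) : ℤ) with hd0
  have hd : d ∣ 2 * (m : ℤ) := by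
    rw [hm2, hd0]; exact_mod_cast pow_dvd_pow 2 (by omega : j ≤ t + 2)
  have hrotP : ∀ k : ℤ, x ^ k ∈ P → d ∣ k := by
    intro k hk
    obtain ⟨i, -, hi⟩ := (Nat.dvd_prime_pow Nat.prime_two).1
      (show Int.gcd k ((2 ^ (t + 2) : ℕ) : ℤ) ∣ 2 ^ (t + 2) by
        exact_mod_cast Int.gcd_dvd_right k ((2 ^ (t + 2) : ℕ) : ℤ))
    have hiP : x ^ ((2 ^ i : ℕ) : ℤ) ∈ P := by
      rw [← hi, Int.gcd_eq_gcd_ab, zpow_add, zpow_mul, zpow_mul,
        h.one_iff.2 (show 2 * (m : ℤ) ∣ ((2 ^ (t + 2) : ℕ) : ℤ) by rw [hm2]), one_zpow, mul_one]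
      exact P.zpow_mem hk _
    have hji : j ≤ i := hmin i hiP
    refine dvd_trans ?_ (hi ▸ Int.gcd_dvd_left k ((2 ^ (t + 2) : ℕ) : ℤ))
    rw [hd0]; exact_mod_cast pow_dvd_pow 2 hji
  have hrot' : ∀ k : ℤ, d ∣ k → x ^ k ∈ P := by
    rintro k ⟨i, rfl⟩
    rw [zpow_mul]; exact P.zpow_mem hjP i
  have hdc : d ∣ c := by
    refine dvd_trans ?_ h.c_dvd
    rw [hd0, ht]; exact_mod_cast pow_dvd_pow 2 hjt
  have hda : d ∣ h.sq a := by
    refine hrotP _ ?_
    rw [show h.sq a = a + e * a + c by unfold sq; ring, ← h.mul_xy]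
    exact P.mul_mem hgP hgP
  have hP : P = h.sub d a hda hdc := by
    ext g
    constructor
    · intro hg
      obtain ⟨k, rfl | rfl⟩ := h.gen g
      · exact ⟨k, Or.inl ⟨hrotP k hg, rfl⟩⟩
      · refine ⟨k, Or.inr ⟨?_, rfl⟩⟩
        have h1 := P.mul_mem hg (P.inv_mem hgP)
        rw [h.xy_inv, h.mul_xy] at h1
        have h2 := (hrotP _ h1).add ((hd.trans h.ee).mul_right (a + c))
        rwa [show k + e * -(e * (a + c)) + c + (e * e - 1) * (a + c) = k - a by ring] at h2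
    · rintro ⟨k, ⟨hk, rfl⟩ | ⟨hk, rfl⟩⟩
      · exact hrot' k hk
      · have := P.mul_mem (hrot' _ hk) hgP
        rwa [h.rot_mul, sub_add_cancel] at this
  subst hP
  let u : h.sub d a hda hdc := ⟨x ^ d, (h.rot_mem hd).2 dvd_rfl⟩
  have hui := h.index_rot hd (u := u) rfl
  have huo : orderOf u = 2 ^ (t + 2 - j) := by
    rw [← Subgroup.orderOf_coe u]
    show orderOf (x ^ d) = _
    rw [hd0, zpow_natCast, orderOf_pow' _ (pow_ne_zero _ two_ne_zero), h.ordx, ht, ← pow_succ',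
      Nat.gcd_eq_right (pow_dvd_pow 2 (by omega)), Nat.pow_div (by omega) two_pos]
  have hcard : Nat.card (h.sub d a hda hdc) = 2 * 2 ^ (t + 2 - j) := by
    rw [← Subgroup.card_mul_index (Subgroup.zpowers u), hui, Nat.card_zpowers, huo, mul_comm]
  have hout : ∀ v : h.sub d a hda hdc, v ∉ Subgroup.zpowers u →
      ∃ k : ℤ, d ∣ k - a ∧ (v : Γ) = x ^ k * y := by
    intro v hv
    obtain ⟨k, ⟨⟨i, rfl⟩, hk⟩ | ⟨hk', hk⟩⟩ := v.2
    · exact absurd ⟨i, Subtype.ext (show (x ^ d) ^ i = (v : Γ) by rw [hk, zpow_mul])⟩ hv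
    · exact ⟨k, hk', hk⟩
  have hfour : ∀ v : h.sub d a hda hdc, v ∉ Subgroup.zpowers u → orderOf v ≤ 4 := by
    intro v hv
    obtain ⟨k, -, hk⟩ := hout v hv
    refine Nat.le_of_dvd (by norm_num) (orderOf_dvd_of_pow_eq_one (Subtype.ext ?_))
    rw [Subgroup.coe_pow, hk, h.sq_four]; rfl
  rcases (show j < t ∨ j = t ∨ j = t + 1 by omega) with hlt | heq | heq
  · refine absurd (CfsgLib.Fusion.isPGroup_mulAut_of_index_two hPp u ?_ hui hfour) hA
    rw [huo]
    calc 8 = 2 ^ 3 := rfl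
      _ ≤ _ := Nat.pow_le_pow_right two_pos (by omega)
  · -- period `m / 2`
    have hdm : (m : ℤ) = d * 2 := by rw [hd0, heq, ht]; push_cast; ring
    by_cases ha : 2 * (m : ℤ) ∣ h.sq a
    · refine absurd (Cfsg.Agent.S3116.aut_isPGroup 2 u (by rw [huo, heq]; simp) (by rw [hcard, heq]; simp)
        fun v hv hvo => ?_) hA
      obtain ⟨k, hk', hk⟩ := hout v hv
      have hv2 : v ^ 2 = 1 := Subtype.ext (by
        rw [Subgroup.coe_pow, hk, pow_two, h.mul_xy, Subgroup.coe_one, h.one_iff,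
          show k + e * k + c = (1 + e) * (k - a) + h.sq a by unfold sq; ring]
        refine dvd_add ?_ ha
        rcases h.e_add with he | ⟨he, h4⟩ <;> rw [he]
        · simp
        · obtain ⟨i, hi⟩ := hk'
          obtain ⟨f, hf⟩ : (4 : ℤ) ∣ m := by exact_mod_cast h4
          refine ⟨f * i, ?_⟩
          rw [hi, show d = 2 * f by linarith]; ring)
      have := orderOf_dvd_of_pow_eq_one hv2
      rw [hvo] at this
      omega
    · exact ⟨a, h.sub_congr (by rw [(h.per_eq_of ha).2.2, hdm]; omega) rfl⟩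
  · -- period `m`
    have hdm : d = (m : ℤ) := by rw [hd0, heq, ht]
    by_cases ha : 2 * (m : ℤ) ∣ h.sq a
    · exact ⟨a, h.sub_congr (by rw [show h.per a = m from if_pos ha, hdm]) rfl⟩
    · refine absurd ?_ hA
      let v : h.sub d a hda hdc := ⟨x ^ a * y, hgP⟩
      have hsq : v * v = u := Subtype.ext (by
        show x ^ a * y * (x ^ a * y) = x ^ d
        rw [h.mul_xy, h.eq_iff, hdm, show a + e * a + c - (m : ℤ) = h.sq a - m by unfold sq; ring]
        exact (h.per_eq_of ha).1)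
      have : IsCyclic (h.sub d a hda hdc) := by
        refine ⟨v, fun w => ?_⟩
        have hu' : u ∈ Subgroup.zpowers v :=
          hsq ▸ Subgroup.mul_mem _ (Subgroup.mem_zpowers v) (Subgroup.mem_zpowers v)
        by_cases hw : w ∈ Subgroup.zpowers u
        · exact Subgroup.zpowers_le.2 hu' hw
        · have hv : v ∉ Subgroup.zpowers u := by
            rintro ⟨i, hi⟩
            have := congrArg Subtype.val hi
            simp only [v, u, Subgroup.coe_zpow, ← zpow_mul] at this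
            exact h.ne_rot _ _ this.symm
          have h1 : w * v⁻¹ ∈ Subgroup.zpowers u := by
            rw [Subgroup.mul_mem_iff_of_index_two hui, Subgroup.inv_mem_iff]; tauto
          have h2 := Subgroup.mul_mem _ (Subgroup.zpowers_le.2 hu' h1) (Subgroup.mem_zpowers v)
          rwa [inv_mul_cancel_right] at h2
      exact isPGroup_mulAut_cyclic hPp

/-- Without odd automorphisms at `a` the focal subgroup avoids that class. -/
theorem focal_le_half (h : DS Γ m e c x y) {F : FusionSystem (⊤ : Subgroup Γ)} (hF : F.IsSaturated 2)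
    (hA : IsPGroup 2 (MulAut Γ)) {a : ℤ} (hp : IsPGroup 2 (F.autGroup (h.cand a))) :
    F.focalSubgroup ≤ h.half (a + 1) := by
  refine focal_le h.isPGroup hF hA (h.index_half (a + 1)) fun P hP hPN => ?_
  by_contra hnp
  have hC : Subgroup.centralizer (P : Set Γ) ≤ P := fun g hg =>
    (IsCentric.centralizerIn_le' hP.1) ⟨Subgroup.mem_top g, hg⟩
  obtain ⟨b, rfl⟩ := h.classify hC fun hM => hnp (hM.to_subgroup _)
  have hab : (2 : ℤ) ∣ b - a := by
    by_contra hab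
    exact hPN (h.cand_le_half (by omega))
  obtain ⟨g, hg⟩ := h.cand_conj hab
  exact hnp (hg ▸ isPGroup_of_conj g hp)

/-- In a saturated system with full focal subgroup every candidate has an odd automorphism. -/
theorem not_isPGroup_cand (h : DS Γ m e c x y) {F : FusionSystem (⊤ : Subgroup Γ)} (hF : F.IsSaturated 2)
    (hA : IsPGroup 2 (MulAut Γ)) (hfoc : F.focalSubgroup = ⊤) (a : ℤ) :
    ¬ IsPGroup 2 (F.autGroup (h.cand a)) := by
  intro hp
  have hle := h.focal_le_half hF hA hp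
  rw [hfoc, top_le_iff] at hle
  have := h.index_half (a + 1)
  rw [hle, Subgroup.index_top] at this
  omega

theorem autGroup_cand (h : DS Γ m e c x y) {F : FusionSystem (⊤ : Subgroup Γ)} {a : ℤ}
    (hnp : ¬ IsPGroup 2 (F.autGroup (h.cand a))) : F.autGroup (h.cand a) = ⊤ := by
  classical
  have hd := h.per_dvd_two_mul a
  obtain ⟨hdm, f, hf⟩ := h.per_dvd a
  have hf0 : ¬ h.per a ∣ f := by
    rintro ⟨k, hk⟩
    rw [hf] at hk
    rcases eq_or_ne f 0 with rfl | hf'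
    · rw [hf, mul_zero, zero_dvd_iff] at hdm
      have := h.m_pos
      omega
    · have : 2 * k = 1 := mul_left_cancel₀ hf' (by linarith)
      omega
  have hnorm : x ^ f ∈ Subgroup.normalizer (h.cand a : Set Γ) := by
    refine Subgroup.mem_normalizer_fintype fun g hg => ?_
    obtain ⟨k, ⟨hk, rfl⟩ | ⟨hk, rfl⟩⟩ := hg
    · rw [← zpow_neg, ← zpow_add, ← zpow_add, show f + k + -f = k by ring]
      exact (h.rot_mem hd).2 hk
    · rw [h.rot_mul, ← zpow_neg, h.mul_rot]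
      refine (h.xy_mem hd).2 ?_
      rw [show f + k + e * -f - a = (k - a) + (1 - e) * f by ring]
      refine hk.add ?_
      obtain ⟨i, hi⟩ := h.two_dvd_add
      exact ⟨1 - i, by rw [hf, show e = 2 * i - 1 by linarith]; ring⟩
  let u : h.cand a := ⟨x ^ h.per a, (h.rot_mem hd).2 dvd_rfl⟩
  let v : h.cand a := ⟨x ^ a * y, (h.xy_mem hd).2 (by simp)⟩
  have hui : (Subgroup.zpowers u).index = 2 := h.index_rot hd rfl
  have hvu : v ∉ Subgroup.zpowers u := by
    rintro ⟨i, hi⟩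
    have := congrArg Subtype.val hi
    simp only [v, u, Subgroup.coe_zpow, ← zpow_mul] at this
    exact h.ne_rot _ _ this.symm
  have hcop : ∀ k : ℤ, 2 * (m : ℤ) ∣ (1 - e) * k → (m : ℤ) ∣ k := by
    intro k hk
    rcases h.he with rfl | ⟨rfl, h4⟩
    · exact (mul_dvd_mul_iff_left (two_ne_zero : (2 : ℤ) ≠ 0)).1 (by simpa using hk)
    · obtain ⟨j, rfl⟩ := h4
      obtain ⟨w, hw⟩ := hk
      push_cast at hw ⊢
      refine ⟨w * (1 - 2 * j) - k * (j - 1), ?_⟩
      have hw' : k * (1 - 2 * (j : ℤ)) = 4 * j * w := by linarith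
      linear_combination (1 - 2 * (j : ℤ)) * hw'
  have hcomm : ∀ k b : ℤ, x ^ k * (x ^ b * y) = x ^ b * y * x ^ k ↔ 2 * (m : ℤ) ∣ (1 - e) * k := by
    intro k b
    rw [h.rot_mul, h.mul_rot, h.xy_iff, show k + b - (b + e * k) = (1 - e) * k by ring]
  have hcent : ∀ g : Γ, g ∈ Subgroup.centralizer (h.cand a : Set Γ) →
      (∃ k, (m : ℤ) ∣ k ∧ g = x ^ k) ∨
        ((m : ℤ) ∣ h.per a ∧ ∃ k, (m : ℤ) ∣ k - a ∧ g = x ^ k * y) := by
    intro g hg
    have h1 := Subgroup.mem_centralizer_iff.mp hg _ v.2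
    have h2 := Subgroup.mem_centralizer_iff.mp hg _ u.2
    simp only [v, u] at h1 h2
    obtain ⟨k, rfl | rfl⟩ := h.gen g
    · exact Or.inl ⟨k, hcop _ ((hcomm k a).1 h1.symm), rfl⟩
    · refine Or.inr ⟨hcop _ ((hcomm _ k).1 h2), k, hcop _ ?_, rfl⟩
      rw [h.mul_xy, h.mul_xy, h.eq_iff] at h1
      rwa [show (1 - e) * (k - a) = -(a + e * k + c - (k + e * a + c)) by ring, dvd_neg]
  have hgen : ∀ α : MulAut (h.cand a), α u = u → α v = v → α = 1 := by
    intro α hαu hαv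
    refine MulEquiv.ext fun w => ?_
    show α w = w
    by_cases hw : w ∈ Subgroup.zpowers u
    · obtain ⟨i, rfl⟩ := hw
      rw [map_zpow, hαu]
    · have h1 : w * v⁻¹ ∈ Subgroup.zpowers u := by
        rw [Subgroup.mul_mem_iff_of_index_two hui, Subgroup.inv_mem_iff]; tauto
      obtain ⟨i, hi⟩ := h1
      rw [show w = u ^ i * v by rw [show u ^ i = w * v⁻¹ from hi, inv_mul_cancel_right]]
      rw [map_mul, map_zpow, hαu, hαv]
  have huo : ∀ n : ℕ, h.per a * n = 2 * (m : ℤ) → orderOf u = n := by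
    intro n hn
    have hp : 0 < h.per a := by
      have := h.m_pos
      rcases lt_trichotomy (h.per a) 0 with hp | hp | hp
      · nlinarith [Int.natCast_nonneg n]
      · rw [hp, zero_mul] at hn; omega
      · exact hp
    rw [← Subgroup.orderOf_coe u]
    show orderOf (x ^ h.per a) = n
    obtain ⟨p, hp'⟩ := Int.eq_ofNat_of_zero_le hp.le
    rw [hp'] at hn hp ⊢
    have hn' : p * n = 2 * m := by exact_mod_cast hn
    rw [zpow_natCast, orderOf_pow' _ (by omega), h.ordx, ← hn', Nat.gcd_eq_right (dvd_mul_right p n),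
      Nat.mul_div_cancel_left _ (by omega)]
  have hB : ∀ (n : ℕ), orderOf u = n → ∀ α ∈ (⊤ : Subgroup (MulAut (h.cand a))),
      α v ∈ ((Subgroup.zpowers (α u) : Subgroup (h.cand a)) : Set (h.cand a))ᶜ := by
    intro n _ α _ hmem
    obtain ⟨i, hi⟩ := hmem
    refine hvu ⟨i, α.injective ?_⟩
    rw [map_zpow]; exact hi
  by_cases ha : 2 * (m : ℤ) ∣ h.sq a
  · -- Klein four
    have hper : h.per a = m := if_pos ha
    have hu2 := huo 2 (by rw [hper]; push_cast; ring)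
    have hcard : Nat.card (h.cand a) = 4 := by
      rw [← Subgroup.card_mul_index (Subgroup.zpowers u), hui, Nat.card_zpowers, hu2]
    have hC : Subgroup.centralizer (h.cand a : Set Γ) = h.cand a := by
      refine le_antisymm (fun g hg => ?_) ?_
      · rcases hcent g hg with ⟨k, hk, rfl⟩ | ⟨-, k, hk, rfl⟩
        · exact (h.rot_mem hd).2 (hper ▸ hk)
        · exact (h.xy_mem hd).2 (hper ▸ hk)
      · intro g hg
        refine Subgroup.mem_centralizer_iff.mpr fun g' hg' => ?_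
        have : IsMulCommutative (h.cand a) := IsPGroup.isMulCommutative_of_card_eq_prime_sq (p := 2) (by rw [hcard]; rfl)
        exact congrArg Subtype.val (this.is_comm.comm (⟨g', hg'⟩ : h.cand a) ⟨g, hg⟩)
    refine eq_of_bound (c := 4) (a := 0) h.isPGroup le_top hnorm ?_ (by rw [hC, hcard]) (le_of_eq (by rw [hcard]; rfl)) ?_ hnp
    · exact fun hh => hf0 ((h.rot_mem hd).1 hh)
    · refine card_aut_le (k := 3) (l := 2) ⊤ (fun α _ => hgen α) {p | p ≠ 1}
        (fun p => ((Subgroup.zpowers p : Subgroup (h.cand a)) : Set (h.cand a))ᶜ) (fun α _ hu1 => ?_) (hB 2 hu2) ?_ ?_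
      · rw [EmbeddingLike.map_eq_one_iff] at hu1
        rw [hu1, orderOf_one] at hu2
        omega
      · have := Set.ncard_add_ncard_compl ({1} : Set (h.cand a))
        rw [Set.ncard_singleton, hcard] at this
        rw [show {p : h.cand a | p ≠ 1} = ({1} : Set (h.cand a))ᶜ from rfl]
        omega
      · intro p hp
        have := Set.ncard_add_ncard_compl ((Subgroup.zpowers p : Subgroup (h.cand a)) : Set (h.cand a))
        rw [hcard, ← Nat.card_coe_set_eq, SetLike.coe_sort_coe, Nat.card_zpowers] at this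
        have h1 : orderOf p ≠ 1 := fun h1 => hp (orderOf_eq_one_iff.1 h1)
        have := orderOf_pos p
        omega
  · -- quaternion of order eight
    obtain ⟨hsqm, ⟨j, hj⟩, hper⟩ := h.per_eq_of ha
    have hper' : h.per a = 2 * j := by rw [hper]; omega
    have hu4 := huo 4 (by rw [hper', hj]; ring)
    have hcard : Nat.card (h.cand a) = 8 := by
      rw [← Subgroup.card_mul_index (Subgroup.zpowers u), hui, Nat.card_zpowers, hu4]
    have hC : Subgroup.centralizer (h.cand a : Set Γ) = Subgroup.zpowers (x ^ (m : ℤ)) := by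
      refine le_antisymm (fun g hg => ?_) (Subgroup.zpowers_le.2
        (Subgroup.mem_centralizer_iff.mpr fun g _ => (h.jmem g).symm.eq))
      rcases hcent g hg with ⟨k, ⟨i, rfl⟩, rfl⟩ | ⟨⟨i, hi⟩, -⟩
      · exact ⟨i, (zpow_mul x _ _).symm⟩
      · rw [hper', hj] at hi
        have := h.m_pos
        have : (1 : ℤ) = 2 * i := mul_left_cancel₀ (show (2 : ℤ) * j ≠ 0 by omega) (by linarith)
        omega
    refine eq_of_bound (c := 2) (a := 2) h.isPGroup le_top hnorm ?_ ?_ (le_of_eq (by rw [hcard]; rfl)) ?_ hnp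
    · exact fun hh => hf0 ((h.rot_mem hd).1 hh)
    · rw [hC, Nat.card_zpowers, zpow_natCast, orderOf_pow' _ h.m_pos.ne', h.ordx,
        Nat.gcd_eq_right (dvd_mul_left m 2), Nat.mul_div_cancel _ h.m_pos]
    · let J : h.cand a := u ^ 2
      have hsqv : ∀ p : h.cand a, p ∉ ({1, J} : Set (h.cand a)) → orderOf p = 4 := by
        intro p hp
        obtain ⟨k, ⟨⟨i, rfl⟩, hk⟩ | ⟨hk', hk⟩⟩ := p.2
        · have hpu : p = u ^ i := Subtype.ext (by rw [hk, zpow_mul]; rfl)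
          subst hpu
          rcases Int.even_or_odd i with ⟨c, rfl⟩ | ⟨c, rfl⟩
          · exfalso
            refine hp ?_
            have hu4' : u ^ (4 : ℤ) = 1 := by
              rw [show (4 : ℤ) = ((4 : ℕ) : ℤ) from rfl, zpow_natCast, ← hu4, pow_orderOf_eq_one]
            rcases Int.even_or_odd c with ⟨w, rfl⟩ | ⟨w, rfl⟩
            · left
              rw [show w + w + (w + w) = 4 * w by ring, zpow_mul, hu4', one_zpow]
            · right
              show _ = u ^ 2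
              rw [show 2 * w + 1 + (2 * w + 1) = 4 * w + 2 by ring, zpow_add, zpow_mul, hu4', one_zpow,
                one_mul]
              exact zpow_natCast u 2
          · refine orderOf_eq_prime_pow (p := 2) (n := 1) (fun h0 => ?_) ?_
            · rw [← zpow_natCast, ← zpow_mul, ← orderOf_dvd_iff_zpow_eq_one, hu4] at h0
              push_cast at h0
              omega
            · rw [← zpow_natCast, ← zpow_mul, ← orderOf_dvd_iff_zpow_eq_one, hu4]
              push_cast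
              exact ⟨2 * c + 1, by ring⟩
        · refine orderOf_eq_prime_pow (p := 2) (n := 1) (fun h0 => ?_) (Subtype.ext ?_)
          · have h0' := congrArg Subtype.val h0
            rw [Subgroup.coe_pow, hk, pow_one, pow_two, h.mul_xy, Subgroup.coe_one, h.one_iff,
              show k + e * k + c = h.sq k by unfold sq; ring] at h0'
            have h2 := h.sq_mod ((h.per_dvd a).2.trans hk')
            exact ha (by simpa using h0'.sub h2)
          · rw [show (2 : ℕ) ^ (1 + 1) = 4 from rfl, Subgroup.coe_pow, hk, h.sq_four]; rfl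
      refine card_aut_le (k := 6) (l := 4) ⊤ (fun α _ => hgen α) ({1, J} : Set (h.cand a))ᶜ
        (fun p => ((Subgroup.zpowers p : Subgroup (h.cand a)) : Set (h.cand a))ᶜ) (fun α _ => ?_) (hB 4 hu4) ?_ ?_
      · intro hmem
        have h1 : orderOf (α u) = 4 := by rw [MulEquiv.orderOf_eq, hu4]
        rcases hmem with h' | h'
        · rw [h', orderOf_one] at h1; omega
        · rw [h', orderOf_pow, hu4] at h1; norm_num at h1
      · have h1 := Set.ncard_add_ncard_compl ({1, J} : Set (h.cand a))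
        have hne : (1 : h.cand a) ≠ J := fun h' => by
          have := orderOf_dvd_of_pow_eq_one h'.symm
          rw [hu4] at this
          omega
        rw [Set.ncard_pair hne, hcard] at h1
        omega
      · intro p hp
        have h1 := Set.ncard_add_ncard_compl ((Subgroup.zpowers p : Subgroup (h.cand a)) : Set (h.cand a))
        rw [hcard, ← Nat.card_coe_set_eq, SetLike.coe_sort_coe, Nat.card_zpowers, hsqv p hp] at h1
        omega

/-- A system is contained in another having odd automorphisms in at least the same classes. -/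
theorem le_of_status (h : DS Γ m e c x y) {F E : FusionSystem (⊤ : Subgroup Γ)} (hF : F.IsSaturated 2)
    (hA : IsPGroup 2 (MulAut Γ))
    (hst : ∀ a, ¬ IsPGroup 2 (F.autGroup (h.cand a)) → ¬ IsPGroup 2 (E.autGroup (h.cand a))) : F ≤ E := by
  have : Fact (Nat.Prime 2) := ⟨Nat.prime_two⟩
  refine le_of_essential h.isPGroup hF hA fun P hP => ?_
  by_cases hp : IsPGroup 2 (F.autGroup P)
  · rw [autGroup_eq_autInducedBy_of_isPGroup
      (fullyNormalized_good (isPGroup_top h.isPGroup) hF hP.2.1).1 hp]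
    exact autInducedBy_le_autGroup le_top
  have hC : Subgroup.centralizer (P : Set Γ) ≤ P := fun g hg =>
    (IsCentric.centralizerIn_le' hP.1) ⟨Subgroup.mem_top g, hg⟩
  obtain ⟨b, rfl⟩ := h.classify hC fun hM => hp (hM.to_subgroup _)
  rw [h.autGroup_cand hp, h.autGroup_cand (hst b hp)]

/-- Two saturated systems with full focal subgroup over the same group agree. -/
theorem le_of_focal (h : DS Γ m e c x y) {F E : FusionSystem (⊤ : Subgroup Γ)} (hF : F.IsSaturated 2)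
    (hE : E.IsSaturated 2) (hA : IsPGroup 2 (MulAut Γ)) (hEf : E.focalSubgroup = ⊤) : F ≤ E :=
  h.le_of_status hF hA fun a _ => h.not_isPGroup_cand hE hA hEf a

/-- The status of a candidate depends only on its parity. -/
theorem status_congr (h : DS Γ m e c x y) {F : FusionSystem (⊤ : Subgroup Γ)} {a b : ℤ}
    (hab : (2 : ℤ) ∣ b - a) (hp : IsPGroup 2 (F.autGroup (h.cand a))) :
    IsPGroup 2 (F.autGroup (h.cand b)) := by
  obtain ⟨g, hg⟩ := h.cand_conj hab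
  exact hg ▸ isPGroup_of_conj g hp

end DS

end CfsgLib.RankTwoUnique
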