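import Cfsg.Agent.Lib.Fusion.Alperin
import Cfsg.Agent.Lib.Fusion.DihedralTop
import Cfsg.Agent.Lib.Fusion.PAut

/-!
Tools for showing that a saturated fusion system over a 2-group is determined by few automorphism
groups. The 2-group is the whole ambient group.
-/

set_option autoImplicit false
set_option linter.unusedSectionVars false

namespace CfsgLib.RankTwoUnique

open Cfsg Cfsg.FusionSystem CfsgLib.Fusion

variable {Γ : Type*} [Group Γ] [Finite Γ] {F E : FusionSystem (⊤ : Subgroup Γ)}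

theorem isPGroup_top (hΓ : IsPGroup 2 Γ) : IsPGroup 2 (⊤ : Subgroup Γ) := hΓ.to_subgroup ⊤

theorem autGroup_top (hF : F.IsSaturated 2) (hA : IsPGroup 2 (MulAut Γ)) :
    F.autGroup ⊤ = Inn (⊤ : Subgroup Γ) := by
  have : Fact (Nat.Prime 2) := ⟨Nat.prime_two⟩
  obtain ⟨Q, hQ, ha, -⟩ := hF ⊤ le_rfl
  have hQ' : Q = ⊤ := eq_of_le_of_card_le (IsConj.le_right hQ) (by rw [IsConj.card_eq hQ])
  subst hQ'
  exact autGroup_top_eq_inn ha (hA.of_equiv (MulAut.congr (Subgroup.topEquiv (G := Γ))).symm)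

/-- Fusion theorem: a system is contained in another as soon as this holds for essential subgroups. -/
theorem le_of_essential (hΓ : IsPGroup 2 Γ) (hF : F.IsSaturated 2) (hA : IsPGroup 2 (MulAut Γ))
    (h : ∀ P, F.IsEssential 2 P → F.autGroup P ≤ E.autGroup P) : F ≤ E := by
  have : Fact (Nat.Prime 2) := ⟨Nat.prime_two⟩
  refine alperin (isPGroup_top hΓ) hF E fun P hP => ?_
  rcases hP with rfl | hP
  · rw [autGroup_top hF hA]; exact inn_le_autGroup le_rfl
  · exact h P hP

/-- The maps moving every element inside its coset of `N`. -/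
def modSys (F : FusionSystem (⊤ : Subgroup Γ)) (N : Subgroup Γ)
    (hN : ∀ g x : Γ, x⁻¹ * (g * x * g⁻¹) ∈ N) : FusionSystem (⊤ : Subgroup Γ) where
  Hom P := {φ | φ ∈ F.Hom P ∧ ∀ x : P, (x : Γ)⁻¹ * φ x ∈ N}
  le_of_mem h := F.le_of_mem h.1
  injective_of_mem h := F.injective_of_mem h.1
  conj_mem hP hg := ⟨F.conj_mem hP hg, fun x => hN _ _⟩
  comp_mem := by
    intro P Q φ ψ hφ hψ h
    refine ⟨F.comp_mem hφ.1 hψ.1 h, fun x => ?_⟩
    have := N.mul_mem (hφ.2 x) (hψ.2 ⟨φ x, h x⟩)
    simpa [mul_assoc] using this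
  inv_mem := by
    intro P φ hφ
    obtain ⟨ψ, hψ, he⟩ := F.inv_mem hφ.1
    refine ⟨ψ, ⟨hψ, ?_⟩, he⟩
    rintro ⟨_, x, rfl⟩
    rw [he x]
    simpa using N.inv_mem (hφ.2 x)

theorem commutator_mem_of_index_two {N : Subgroup Γ} (hN : N.index = 2) (g x : Γ) :
    x⁻¹ * (g * x * g⁻¹) ∈ N := by
  simp only [Subgroup.mul_mem_iff_of_index_two hN, Subgroup.inv_mem_iff]
  tauto

/-- A focal subgroup bound: only the essential subgroups outside `N` matter. -/
theorem focal_le (hΓ : IsPGroup 2 Γ) (hF : F.IsSaturated 2) (hA : IsPGroup 2 (MulAut Γ))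
    {N : Subgroup Γ} (hN : N.index = 2)
    (h : ∀ P, F.IsEssential 2 P → ¬ P ≤ N → IsPGroup 2 (F.autGroup P)) :
    F.focalSubgroup ≤ N := by
  have : Fact (Nat.Prime 2) := ⟨Nat.prime_two⟩
  have hle : F ≤ modSys F N (commutator_mem_of_index_two hN) := by
    refine le_of_essential hΓ hF hA fun P hP α hα => (mem_autGroup le_top).mpr ⟨(mem_autGroup le_top).mp hα, ?_⟩
    intro x
    by_cases hPN : P ≤ N
    · exact N.mul_mem (N.inv_mem (hPN x.2)) (hPN (α x).2)
    · obtain ⟨Q, hQ, ha, -⟩ := hF P le_top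
      have hPa : F.IsFullyAutomized 2 P :=
        (fullyNormalized_good (isPGroup_top hΓ) hF hP.2.1).1
      rw [autGroup_eq_autInducedBy_of_isPGroup hPa (h P hP hPN)] at hα
      obtain ⟨g, -, hg⟩ := mem_autInducedBy.mp hα
      show (x : Γ)⁻¹ * ((α x : P) : Γ) ∈ N
      rw [hg]
      exact commutator_mem_of_index_two hN _ _
  refine (Subgroup.closure_le _).mpr ?_
  rintro _ ⟨P, φ, x, hφ, rfl⟩
  exact (hle P hφ).2 x

/-- Image of the automorphism group under conjugation. -/
theorem autGroup_le_of_conj {P : Subgroup Γ} (g : Γ) (h : F.autGroup P ≤ E.autGroup P) :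
    F.autGroup (P.map (MulAut.conj g).toMonoidHom) ≤ E.autGroup (P.map (MulAut.conj g).toMonoidHom) := by
  have hr : (conjHom P g).range = P.map (MulAut.conj g).toMonoidHom := by
    rw [conjHom, MonoidHom.range_comp, Subgroup.range_subtype]
  obtain ⟨e, he⟩ := exists_equiv (F.conj_mem le_top (Subgroup.mem_top g)) hr
  rw [← map_autGroup (F.conj_mem le_top (Subgroup.mem_top g)) he,
    ← map_autGroup (E.conj_mem le_top (Subgroup.mem_top g)) he]
  exact Subgroup.map_mono h

theorem isPGroup_of_conj {P : Subgroup Γ} (g : Γ) (h : IsPGroup 2 (F.autGroup P)) :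
    IsPGroup 2 (F.autGroup (P.map (MulAut.conj g).toMonoidHom)) := by
  have hr : (conjHom P g).range = P.map (MulAut.conj g).toMonoidHom := by
    rw [conjHom, MonoidHom.range_comp, Subgroup.range_subtype]
  obtain ⟨e, he⟩ := exists_equiv (F.conj_mem le_top (Subgroup.mem_top g)) hr
  rw [← map_autGroup (F.conj_mem le_top (Subgroup.mem_top g)) he]
  exact h.map _

/-- An automorphism group containing a large 2-group and not a 2-group fills a small overgroup. -/
theorem eq_of_bound {P : Subgroup Γ} (hΓ : IsPGroup 2 Γ) {U : Subgroup (MulAut P)}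
    (hU : F.autGroup P ≤ U) {g : Γ} (hg : g ∈ Subgroup.normalizer (P : Set Γ)) (hgP : g ∉ P) {c a : ℕ}
    (hc : Nat.card (Subgroup.centralizer (P : Set Γ)) = c) (hP : c * 2 ^ a ≤ Nat.card P)
    (hUc : Nat.card U ≤ 3 * 2 ^ (a + 1)) (hnp : ¬ IsPGroup 2 (F.autGroup P)) : F.autGroup P = U := by
  have : Fact (Nat.Prime 2) := ⟨Nat.prime_two⟩
  have : Finite (MulAut P) := finite_mulAut (le_top : P ≤ ⊤)
  -- the automorphisms induced by `Γ`
  have hcard : Nat.card (autInducedBy (⊤ : Subgroup Γ) P) * c =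
      Nat.card (Subgroup.normalizer (P : Set Γ)) := by
    have hrange : autInducedBy (⊤ : Subgroup Γ) P = P.normalizerMonoidHom.range := by
      rw [autInducedBy_eq_map, Subgroup.top_subgroupOf, ← MonoidHom.range_eq_map]
    have hk : Nat.card P.normalizerMonoidHom.ker = c := by
      rw [Subgroup.normalizerMonoidHom_ker, ← hc]
      exact Nat.card_congr (Subgroup.subgroupOfEquivOfLe (Subgroup.centralizer_le_normalizer _)).toEquiv
    rw [hrange, ← hk, ← Subgroup.card_mul_index P.normalizerMonoidHom.ker, Subgroup.index_ker, mul_comm]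
  have hlt : P < Subgroup.normalizer (P : Set Γ) :=
    lt_of_le_of_ne Subgroup.le_normalizer fun e => hgP (e ▸ hg)
  have h2N : 2 * Nat.card P ≤ Nat.card (Subgroup.normalizer (P : Set Γ)) := by
    obtain ⟨d, hd⟩ := Subgroup.card_dvd_of_le hlt.le
    rw [hd, mul_comm]
    refine Nat.mul_le_mul_left _ ?_
    rcases Nat.lt_or_ge d 2 with hd2 | hd2
    · interval_cases d
      · simp [Nat.card_pos.ne'] at hd
      · rw [mul_one] at hd
        exact absurd (eq_of_le_of_card_le hlt.le hd.le) hlt.ne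
    · exact hd2
  obtain ⟨b, hb⟩ := (isPGroup_autInducedBy (isPGroup_top hΓ) P).exists_card_eq
  have hab : 2 ^ (a + 1) ≤ 2 ^ b := by
    have hcpos : 0 < c := hc ▸ Nat.card_pos
    refine Nat.le_of_mul_le_mul_right ?_ hcpos
    rw [← hb, hcard]
    refine le_trans ?_ h2N
    rw [pow_succ]; linarith
  obtain ⟨s, hs⟩ := hb ▸ Subgroup.card_dvd_of_le (autInducedBy_le_autGroup (F := F) (P := P) le_top)
  have hs3 : 3 ≤ s := by
    by_contra hs3
    interval_cases s
    · simp [Nat.card_pos.ne'] at hs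
    · exact hnp (IsPGroup.of_card (n := b) (by simpa using hs))
    · exact hnp (IsPGroup.of_card (n := b + 1) (by rw [hs, pow_succ]))
  refine eq_of_le_of_card_le hU (hUc.trans ?_)
  rw [hs, mul_comm (2 ^ b)]
  exact Nat.mul_le_mul hs3 hab

/-- Counting automorphisms by the images of two elements generating together with fixed ones. -/
theorem card_aut_le {P : Type*} [Group P] [Finite P] (U : Subgroup (MulAut P)) {u v : P} {k l : ℕ}
    (hinj : ∀ α ∈ U, α u = u → α v = v → α = 1) (A : Set P) (B : P → Set P)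
    (hA : ∀ α ∈ U, α u ∈ A) (hB : ∀ α ∈ U, α v ∈ B (α u))
    (hk : A.ncard ≤ k) (hl : ∀ p ∈ A, (B p).ncard ≤ l) : Nat.card U ≤ k * l := by
  classical
  have : Fintype P := Fintype.ofFinite P
  let f : U → Σ p : A, B (p : P) := fun α => ⟨⟨(α : MulAut P) u, hA α α.2⟩, ⟨(α : MulAut P) v, hB α α.2⟩⟩
  have hf : Function.Injective f := by
    intro α β h
    have h1 : (α : MulAut P) u = (β : MulAut P) u := congrArg (fun s : Σ p : A, B (p : P) => (s.1 : P)) h
    have h2 : (α : MulAut P) v = (β : MulAut P) v := congrArg (fun s : Σ p : A, B (p : P) => (s.2 : P)) h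
    refine Subtype.ext (inv_mul_eq_one.mp (hinj _ (U.mul_mem (U.inv_mem α.2) β.2) ?_ ?_))
    · rw [MulAut.mul_apply, ← h1, MulAut.inv_apply_self]
    · rw [MulAut.mul_apply, ← h2, MulAut.inv_apply_self]
  refine (Nat.card_le_card_of_injective f hf).trans ?_
  rw [Nat.card_sigma]
  calc (∑ p : A, Nat.card (B (p : P))) ≤ ∑ _p : A, l :=
        Finset.sum_le_sum fun p _ => by simpa [Set.ncard] using (Nat.card_coe_set_eq (B (p : P))).trans_le (hl _ p.2)
    _ = Fintype.card A * l := by simp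
    _ ≤ k * l := Nat.mul_le_mul_right _ (by rwa [← Nat.card_eq_fintype_card, Nat.card_coe_set_eq])

end CfsgLib.RankTwoUnique
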